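import Cfsg.Agent.H182.Bad.Base

/-!
# Bad elements and a class of transpositions: the abstract argument for the Baby Monster (helper182)

`y` has order 13, `TT` is a class of involutions such that, for the members commuting with `y`: `|C(t) ∩ C(y)|` divides 52,
the products of two of them have order 1, 2, 3, 5, and the product of two commuting ones is not in `TT`. Then no bad element
`x` of even order, `x² ≠ 1`, commutes with `y` (`abs`).
-/

set_option autoImplicit false
set_option linter.unusedSectionVars false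

namespace Cfsg.Agent.H182.Bad.BAbs

open Subgroup Cfsg
open Cfsg.Agent.H182.Bad
open Cfsg.Agent.H472.ComRed (cm cm_eq cm_eq' cm_eq_one cm_mem cm_mem_left map_cm)

variable {G : Type*} [Group G] [Finite G]

/-- the situation -/
structure Sit (TT : Set G) (y : G) : Prop where
  ord : orderOf y = 13
  sq : ∀ t ∈ TT, t * t = 1
  one : (1 : G) ∉ TT
  conj : ∀ g : G, ∀ t ∈ TT, g * t * g⁻¹ ∈ TT
  card : ∀ t ∈ TT, Commute t y → Nat.card ↥(centralizer ({t} : Set G) ⊓ centralizer ({y} : Set G)) ∣ 52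
  pr : ∀ s ∈ TT, ∀ t ∈ TT, Commute s y → Commute t y → (s * t) ^ 2 = 1 ∨ (s * t) ^ 3 = 1 ∨ (s * t) ^ 5 = 1
  pure : ∀ s ∈ TT, ∀ t ∈ TT, Commute s y → Commute t y → Commute s t → s * t ∉ TT

variable {TT : Set G} {y : G}

/-- the index 2 dichotomy -/
theorem dich {D Z : Subgroup G} (hZD : Z ≤ D) (h : Nat.card D ∣ 2 * Nat.card Z) {g k : G} (hg : g ∈ D) (hk : k ∈ D) :
    g ∈ Z ∨ k ∈ Z ∨ g * k ∈ Z := by
  have h1 : Z.relIndex D ∣ 2 := by
    have h2 : Nat.card Z * Z.relIndex D = Nat.card D := by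
      rw [relIndex]
      have h3 := card_mul_index (Z.subgroupOf D)
      have h4 : Nat.card (Z.subgroupOf D) = Nat.card Z := Nat.card_congr (subgroupOfEquivOfLe hZD).toEquiv
      rw [h4] at h3
      exact h3
    rw [← h2, mul_comm 2] at h
    exact Nat.dvd_of_mul_dvd_mul_left Nat.card_pos h
  rcases (Nat.dvd_prime Nat.prime_two).1 h1 with h2 | h2
  · left
    have h3 : D ≤ Z := relIndex_eq_one.1 h2
    exact h3 hg
  · have h3 : (Z.subgroupOf D).index = 2 := h2
    have h4 := mul_mem_iff_of_index_two h3 (a := ⟨g, hg⟩) (b := ⟨k, hk⟩)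
    by_cases h5 : g ∈ Z
    · exact Or.inl h5
    by_cases h6 : k ∈ Z
    · exact Or.inr (Or.inl h6)
    right; right
    have h7 : (⟨g, hg⟩ * ⟨k, hk⟩ : D) ∈ Z.subgroupOf D := h4.2 (by
      rw [mem_subgroupOf, mem_subgroupOf]
      exact iff_of_false h5 h6)
    rw [mem_subgroupOf] at h7
    exact h7

theorem eq_one_of_pow {g : G} {m n : ℕ} (h : m.Coprime n) (h1 : g ^ m = 1) (h2 : g ^ n = 1) : g = 1 := by
  have h3 : orderOf g ∣ m := orderOf_dvd_of_pow_eq_one h1
  have h4 : orderOf g ∣ n := orderOf_dvd_of_pow_eq_one h2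
  have h5 : orderOf g ∣ 1 := by
    rw [← h]
    exact Nat.dvd_gcd h3 h4
  exact orderOf_eq_one_iff.1 (Nat.dvd_one.1 h5)

/-- two elements of square 1 whose product has square 1 commute -/
theorem commute_of_sq {a b : G} (ha : a * a = 1) (hb : b * b = 1) (hab : (a * b) ^ 2 = 1) : Commute a b := by
  have h1 : a * b * (a * b) = 1 := by rw [← pow_two, hab]
  have h2 : a⁻¹ = a := inv_eq_of_mul_eq_one_left ha
  have h3 : b⁻¹ = b := inv_eq_of_mul_eq_one_left hb
  have h4 : (a * b)⁻¹ = a * b := inv_eq_of_mul_eq_one_left h1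
  rw [mul_inv_rev, h2, h3] at h4
  exact h4.symm

theorem sq_of_commute {a b : G} (ha : a * a = 1) (hb : b * b = 1) (hab : Commute a b) : (a * b) * (a * b) = 1 := by
  calc (a * b) * (a * b) = a * (b * a) * b := by group
    _ = a * (a * b) * b := by rw [hab.eq]
    _ = (a * a) * (b * b) := by group
    _ = 1 := by rw [ha, hb, one_mul]

namespace Sit

variable (S : Sit TT y)

include S

theorem y_pow : y ^ 13 = 1 := by rw [← S.ord, pow_orderOf_eq_one]

theorem eq_one_of_sq {g : G} (hg : g ∈ zpowers y) (h : g * g = 1) : g = 1 := by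
  obtain ⟨i, rfl⟩ := hg
  have h1 : (y ^ i) ^ 13 = 1 := by
    rw [← zpow_natCast, ← zpow_mul, mul_comm, zpow_mul, zpow_natCast, S.y_pow, one_zpow]
  exact eq_one_of_pow (m := 13) (n := 2) (by norm_num) h1 (by rw [pow_two]; exact h)

theorem ne {t : G} (ht : t ∈ TT) : t ≠ 1 := fun h => S.one (h ▸ ht)

theorem ord_t {t : G} (ht : t ∈ TT) : orderOf t = 2 :=
  orderOf_eq_prime (by rw [pow_two]; exact S.sq t ht) (S.ne ht)

section

variable {t : G} (ht : t ∈ TT) (hty : Commute t y)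

include ht hty

theorem ord_c : orderOf (y * t) = 26 := by
  rw [hty.symm.orderOf_mul_eq_mul_orderOf_of_coprime (by rw [S.ord, S.ord_t ht]; norm_num), S.ord, S.ord_t ht]

theorem zc {g : G} (hg : g ∈ zpowers (y * t)) (h : g * g = 1) : g = 1 ∨ g = t := by
  obtain ⟨i, rfl⟩ := hg
  have h1 : (y * t) ^ i * (y * t) ^ i = 1 := h
  rw [← zpow_add] at h1
  have h2 : ((orderOf (y * t) : ℕ) : ℤ) ∣ i + i := orderOf_dvd_iff_zpow_eq_one.2 h1
  rw [S.ord_c ht hty] at h2
  obtain ⟨k, hk⟩ := h2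
  have h3 : i = 13 * k := by
    have : (i + i : ℤ) = 26 * k := hk
    omega
  have h4 : (y * t) ^ (13 : ℤ) = t := by
    have h5 : (y * t) ^ (13 : ℕ) = t := by
      rw [hty.symm.mul_pow, S.y_pow, one_mul]
      have : t ^ 13 = (t * t) ^ 6 * t := by
        rw [← pow_two, ← pow_mul, ← pow_succ]
      rw [this, S.sq t ht, one_pow, one_mul]
    exact_mod_cast h5
  change (y * t) ^ i = 1 ∨ (y * t) ^ i = t
  rw [h3, zpow_mul, h4]
  rcases Int.even_or_odd' k with ⟨m, hm | hm⟩
  · left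
    rw [hm, zpow_mul]
    have : t ^ (2 : ℤ) = 1 := by
      have h6 : t ^ (2 : ℕ) = 1 := by rw [pow_two]; exact S.sq t ht
      exact_mod_cast h6
    rw [this, one_zpow]
  · right
    rw [hm, zpow_add, zpow_mul, zpow_one]
    have : t ^ (2 : ℤ) = 1 := by
      have h6 : t ^ (2 : ℕ) = 1 := by rw [pow_two]; exact S.sq t ht
      exact_mod_cast h6
    rw [this, one_zpow, one_mul]

theorem dich' {g k : G} (hg1 : Commute g t) (hg2 : Commute g y) (hk1 : Commute k t) (hk2 : Commute k y) :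
    g ∈ zpowers (y * t) ∨ k ∈ zpowers (y * t) ∨ g * k ∈ zpowers (y * t) := by
  refine dich (D := centralizer ({t} : Set G) ⊓ centralizer ({y} : Set G)) ?_ ?_ ?_ ?_
  · rw [zpowers_le, mem_inf, mem_centralizer_singleton_iff, mem_centralizer_singleton_iff]
    exact ⟨(hty.symm.mul_left (Commute.refl t)).eq, ((Commute.refl y).mul_left hty).eq⟩
  · rw [Nat.card_zpowers, S.ord_c ht hty]
    exact S.card t ht hty
  · exact ⟨mem_centralizer_singleton_iff.2 hg1.eq, mem_centralizer_singleton_iff.2 hg2.eq⟩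
  · exact ⟨mem_centralizer_singleton_iff.2 hk1.eq, mem_centralizer_singleton_iff.2 hk2.eq⟩

theorem comm_zc {g k : G} (hg1 : Commute g t) (hg2 : Commute g y) (hk : k ∈ zpowers (y * t)) : Commute g k := by
  obtain ⟨i, rfl⟩ := hk
  exact (hg2.mul_right hg1).zpow_right i

/-- `C(t) ∩ C(y)` is abelian -/
theorem comm {g k : G} (hg1 : Commute g t) (hg2 : Commute g y) (hk1 : Commute k t) (hk2 : Commute k y) : Commute g k := by
  rcases S.dich' ht hty hg1 hg2 hk1 hk2 with h | h | h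
  · exact (S.comm_zc ht hty hk1 hk2 h).symm
  · exact S.comm_zc ht hty hg1 hg2 h
  · have h1 := S.comm_zc ht hty hg1 hg2 h
    have h2 : g * (g * k) = g * k * g := h1
    rw [mul_assoc g k g] at h2
    exact mul_left_cancel h2

/-- the elements of square 1 in `C(t) ∩ C(y)` -/
theorem four {u v : G} (hu1 : Commute u t) (hu2 : Commute u y) (hv1 : Commute v t) (hv2 : Commute v y)
    (hu : u * u = 1) (hv : v * v = 1) : (u = 1 ∨ u = t) ∨ (v = 1 ∨ v = t) ∨ u = v ∨ u = t * v := by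
  rcases S.dich' ht hty hu1 hu2 hv1 hv2 with h | h | h
  · exact Or.inl (S.zc ht hty h hu)
  · exact Or.inr (Or.inl (S.zc ht hty h hv))
  · right; right
    have h1 := S.comm ht hty hu1 hu2 hv1 hv2
    have h2 := S.zc ht hty h (sq_of_commute hu hv h1)
    have h3 : v⁻¹ = v := inv_eq_of_mul_eq_one_left hv
    rcases h2 with h2 | h2
    · left
      rw [mul_eq_one_iff_eq_inv, h3] at h2
      exact h2
    · right
      rw [← h2, mul_assoc, hv, mul_one]

/-- at most one transposition commutes with `t` and `y`, besides `t` -/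
theorem partner {u v : G} (hu : u ∈ TT) (hv : v ∈ TT) (hu1 : Commute u t) (hu2 : Commute u y) (hv1 : Commute v t)
    (hv2 : Commute v y) (hut : u ≠ t) (hvt : v ≠ t) : u = v := by
  rcases S.four ht hty hu1 hu2 hv1 hv2 (S.sq u hu) (S.sq v hv) with (h | h) | (h | h) | h | h
  · exact absurd h (S.ne hu)
  · exact absurd h hut
  · exact absurd h (S.ne hv)
  · exact absurd h hvt
  · exact h
  · exfalso
    exact S.pure t ht v hv hty hv2 hv1.symm (h ▸ hu)

end

omit S in
/-- a pair that does not commute -/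
theorem exists_noncomm (S : Sit TT y) (h3 : 3 ≤ Nat.card {t : G // t ∈ TT ∧ Commute t y}) :
    ∃ s ∈ TT, ∃ t ∈ TT, Commute s y ∧ Commute t y ∧ ¬ Commute s t := by
  classical
  by_contra hcon
  push Not at hcon
  have := Fintype.ofFinite {t : G // t ∈ TT ∧ Commute t y}
  rw [Nat.card_eq_fintype_card] at h3
  obtain ⟨a, b, c, hab, hac, hbc⟩ := Fintype.two_lt_card_iff.1 (by omega : 2 < Fintype.card {t : G // t ∈ TT ∧ Commute t y})
  have h4 : (b : G) = c := S.partner a.2.1 a.2.2 b.2.1 c.2.1 (hcon _ b.2.1 _ a.2.1 b.2.2 a.2.2) b.2.2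
    (hcon _ c.2.1 _ a.2.1 c.2.2 a.2.2) c.2.2 (fun h => hab (Subtype.ext h).symm) (fun h => hac (Subtype.ext h).symm)
  exact hbc (Subtype.ext h4)

end Sit

/-- the subgroup `V` -/
def InV (TT : Set G) (y v : G) : Prop := Commute v y ∧ ∀ t ∈ TT, Commute t y → Commute (v * t * v⁻¹) t

theorem commute_conj {v t y : G} (hv : Commute v y) (ht : Commute t y) : Commute (v * t * v⁻¹) y :=
  (hv.mul_left ht).mul_left hv.inv_left

namespace Sit

variable (S : Sit TT y)

include S

theorem inV_mul {v w : G} (hv : InV TT y v) (hw : InV TT y w) : InV TT y (v * w) := by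
  refine ⟨hv.1.mul_left hw.1, fun t ht hty => ?_⟩
  have e1 : v * w * t * (v * w)⁻¹ = v * (w * t * w⁻¹) * v⁻¹ := by group
  rw [e1]
  have h1 := hw.2 t ht hty
  set t' := w * t * w⁻¹ with ht'
  have h2 : t' ∈ TT := S.conj w t ht
  have h3 : Commute t' y := commute_conj hw.1 hty
  have h4 := hv.2 t' h2 h3
  by_cases h5 : t' = t
  · rw [h5] at h4 ⊢
    exact h4
  by_cases h6 : v * t' * v⁻¹ = t'
  · rw [h6]
    exact h1
  · have h7 := S.partner h2 h3 (S.conj v t' h2) ht h4 (commute_conj hv.1 h3) h1.symm hty h6 (fun h => h5 h.symm)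
    rw [h7]

omit [Finite G] S in
theorem inV_inv {v : G} (hv : InV TT y v) : InV TT y v⁻¹ := by
  refine ⟨hv.1.inv_left, fun t ht hty => ?_⟩
  have h1 := hv.2 t ht hty
  have h2 : Commute (v⁻¹ * (v * t * v⁻¹) * v) (v⁻¹ * t * v) := by
    show _ * _ = _ * _
    calc v⁻¹ * (v * t * v⁻¹) * v * (v⁻¹ * t * v) = v⁻¹ * ((v * t * v⁻¹) * t) * v := by group
      _ = v⁻¹ * (t * (v * t * v⁻¹)) * v := by rw [h1.eq]
      _ = _ := by group
  have e1 : v⁻¹ * (v * t * v⁻¹) * v = t := by group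
  rw [e1] at h2
  rw [inv_inv]
  exact h2.symm

omit [Finite G] S in
theorem inV_y (TT : Set G) (y : G) {v : G} (hv : v ∈ zpowers y) : InV TT y v := by
  obtain ⟨i, rfl⟩ := hv
  refine ⟨(Commute.refl y).zpow_left i, fun t _ hty => ?_⟩
  have h1 : Commute t (y ^ i) := hty.zpow_right i
  have h2 : y ^ i * t * (y ^ i)⁻¹ = t := by rw [← h1.eq, mul_inv_cancel_right]
  change Commute (y ^ i * t * (y ^ i)⁻¹) t
  rw [h2]

/-- a transposition not commuting with another one is not in `V` -/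
theorem not_inV {s t : G} (hs : s ∈ TT) (ht : t ∈ TT) (hsy : Commute s y) (hty : Commute t y) (hst : ¬ Commute s t) :
    ¬ InV TT y t := by
  intro hv
  have h1 := hv.2 s hs hsy
  have e1 : t⁻¹ = t := inv_eq_of_mul_eq_one_left (S.sq t ht)
  have h2 : (t * s * t⁻¹ * s) * (t * s * t⁻¹ * s) = 1 := by
    refine sq_of_commute ?_ (S.sq s hs) h1
    have := S.sq s hs
    calc t * s * t⁻¹ * (t * s * t⁻¹) = t * (s * s) * t⁻¹ := by group
      _ = 1 := by rw [this]; group
  rw [e1] at h2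
  have h3 : (t * s) ^ 4 = 1 := by
    rw [← h2]
    simp only [pow_succ, pow_zero, one_mul, mul_assoc]
  have h4 : t * s = 1 := by
    rcases S.pr t ht s hs hty hsy with h | h | h
    · exfalso
      exact hst (commute_of_sq (S.sq t ht) (S.sq s hs) h).symm
    · exact eq_one_of_pow (by norm_num) h h3
    · exact eq_one_of_pow (by norm_num) h h3
  have h5 : t = s := by
    rw [mul_eq_one_iff_eq_inv, inv_eq_of_mul_eq_one_left (S.sq s hs)] at h4
    exact h4
  exact hst (h5 ▸ Commute.refl s)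

/-- If `z` has order 2 and commutes with `s`, `t`, `y` then `t` is the only transposition in `C(t) ∩ C(y)`. -/
theorem only {s t z : G} (hs : s ∈ TT) (ht : t ∈ TT) (hsy : Commute s y) (hty : Commute t y) (hst : ¬ Commute s t)
    (hz : z * z = 1) (hz1 : z ≠ 1) (hzs : Commute z s) (hzt : Commute z t) (hzy : Commute z y)
    {t' : G} (ht' : t' ∈ TT) (hty' : Commute t' y) (htt : Commute t' t) : t' = t := by
  have hztne : z ≠ t := by
    rintro rfl
    exact hst hzs.symm
  have hzT : z ∉ TT := fun h => hst (S.comm h hzy hzs.symm hsy hzt.symm hty)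
  rcases S.four ht hty htt hty' hzt hzy (S.sq t' ht') hz with (h | h) | (h | h) | h | h
  · exact absurd h (S.ne ht')
  · exact h
  · exact absurd h hz1
  · exact absurd h hztne
  · exact absurd (h ▸ ht') hzT
  · exfalso
    have h1 : s * t' = (s * t) * z := by rw [h, mul_assoc]
    have hc : Commute (s * t) z := (hzs.mul_right hzt).symm
    have hz2 : z ^ 2 = 1 := by rw [pow_two]; exact hz
    have hs1 : s ≠ t := fun h => hst (h ▸ Commute.refl s)
    have hst1 : s * t ≠ 1 := by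
      intro h2
      rw [mul_eq_one_iff_eq_inv, inv_eq_of_mul_eq_one_left (S.sq t ht)] at h2
      exact hs1 h2
    have hst2 : (s * t) ^ 2 ≠ 1 := fun h2 => hst (commute_of_sq (S.sq s hs) (S.sq t ht) h2)
    have h2 := S.pr s hs t' ht' hsy hty'
    rw [h1, hc.mul_pow, hc.mul_pow, hc.mul_pow, hz2, mul_one] at h2
    have hz3 : z ^ 3 = z := by rw [pow_succ, hz2, one_mul]
    have hz5 : z ^ 5 = z := by
      have : z ^ 5 = (z ^ 2) ^ 2 * z := by group
      rw [this, hz2, one_pow, one_mul]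
    rw [hz3, hz5] at h2
    have hzi : z⁻¹ = z := inv_eq_of_mul_eq_one_left hz
    rcases h2 with h2 | h2 | h2
    · exact hst2 h2
    · rw [mul_eq_one_iff_eq_inv, hzi] at h2
      rcases S.pr s hs t ht hsy hty with h3 | h3 | h3
      · exact hst2 h3
      · exact hz1 (h2 ▸ h3)
      · apply hst1
        refine eq_one_of_pow (m := 6) (n := 5) (by norm_num) ?_ h3
        have : (s * t) ^ 6 = ((s * t) ^ 3) ^ 2 := by rw [← pow_mul]
        rw [this, h2, hz2]
    · rw [mul_eq_one_iff_eq_inv, hzi] at h2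
      rcases S.pr s hs t ht hsy hty with h3 | h3 | h3
      · exact hst2 h3
      · apply hst1
        refine eq_one_of_pow (m := 10) (n := 3) (by norm_num) ?_ h3
        have : (s * t) ^ 10 = ((s * t) ^ 5) ^ 2 := by rw [← pow_mul]
        rw [this, h2, hz2]
      · exact hz1 (h2 ▸ h3)

/-- the squares of the elements of `V` -/
theorem sq_commute {v : G} (hv : InV TT y v) {t : G} (ht : t ∈ TT) (hty : Commute t y) : Commute (v * v) t := by
  have h1 := hv.2 t ht hty
  set t' := v * t * v⁻¹ with ht'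
  have h2 : t' ∈ TT := S.conj v t ht
  have h3 : Commute t' y := commute_conj hv.1 hty
  have h4 := hv.2 t' h2 h3
  have e1 : v * t' * v⁻¹ = (v * v) * t * (v * v)⁻¹ := by rw [ht']; group
  have h5 : (v * v) * t * (v * v)⁻¹ = t := by
    rw [← e1]
    by_cases h6 : t' = t
    · rw [h6]
      rw [← ht', h6]
    by_cases h7 : v * t' * v⁻¹ = t'
    · exfalso
      apply h6
      have h8 : v * t' * v⁻¹ = v * t * v⁻¹ := h7
      exact mul_left_cancel (mul_right_cancel h8)
    · exact S.partner h2 h3 (S.conj v t' h2) ht h4 (commute_conj hv.1 h3) h1.symm hty h7 (fun h => h6 h.symm)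
  rw [mul_inv_eq_iff_eq_mul] at h5
  exact h5

/-- **`v² ∈ ⟨y⟩` for `v ∈ V`.** -/
theorem sq_mem {s t : G} (hs : s ∈ TT) (ht : t ∈ TT) (hsy : Commute s y) (hty : Commute t y) (hst : ¬ Commute s t) {v : G}
    (hv : InV TT y v) : v * v ∈ zpowers y := by
  by_contra hcon
  have hvs := S.sq_commute hv hs hsy
  have hvt := S.sq_commute hv ht hty
  have hvy : Commute (v * v) y := hv.1.mul_left hv.1
  -- `|⟨v²⟩|` divides 52
  set w := v * v with hw
  have hmem : w ∈ centralizer ({t} : Set G) ⊓ centralizer ({y} : Set G) :=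
    ⟨mem_centralizer_singleton_iff.2 hvt.eq, mem_centralizer_singleton_iff.2 hvy.eq⟩
  have how : w ^ 52 = 1 := by
    have h1 : orderOf w ∣ Nat.card ↥(centralizer ({t} : Set G) ⊓ centralizer ({y} : Set G)) := by
      have := _root_.orderOf_dvd_natCard
        (⟨w, hmem⟩ : ↥(centralizer ({t} : Set G) ⊓ centralizer ({y} : Set G)))
      rwa [Subgroup.orderOf_mk] at this
    exact orderOf_dvd_iff_pow_eq_one.1 (h1.trans (S.card t ht hty))
  -- the 2-part of `w`
  have hr4 : (w ^ 13) ^ 4 = 1 := by rw [← pow_mul]; exact how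
  have hr1 : w ^ 13 ≠ 1 := by
    intro h1
    -- `w` has order 13 or 1 and lies in `⟨y t⟩` or `w * w` does
    apply hcon
    have h2 : w * w ∈ zpowers (y * t) := by
      rcases S.dich' ht hty hvt hvy hvt hvy with h | h | h
      · exact mul_mem h h
      · exact mul_mem h h
      · exact h
    -- `w = (w²)^7`
    have h3 : w = (w * w) ^ 7 := by
      have : (w * w) ^ 7 = w ^ 13 * w := by rw [← pow_two, ← pow_mul, ← pow_succ]
      rw [this, h1, one_mul]
    have h4 : w ∈ zpowers (y * t) := by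
      rw [h3]
      exact pow_mem h2 7
    obtain ⟨i, hi⟩ := mem_zpowers_iff.1 h4
    -- `w = w^14 = (y t)^(14 i) = y^(14 i)`
    have h5 : w = w ^ 14 := by
      rw [show w ^ 14 = w ^ 13 * w from pow_succ w 13, h1, one_mul]
    rw [h5, ← hi, ← zpow_natCast, ← zpow_mul, mul_comm i, zpow_mul, zpow_natCast, hty.symm.mul_pow]
    have h6 : t ^ 14 = 1 := by
      have : t ^ 14 = (t * t) ^ 7 := by rw [← pow_two, ← pow_mul]
      rw [this, S.sq t ht, one_pow]
    rw [h6, mul_one]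
    exact zpow_mem (pow_mem (mem_zpowers y) 14) i
  obtain ⟨z, hz1, hz, hzi⟩ : ∃ z : G, z ≠ 1 ∧ z * z = 1 ∧ ∃ k : ℕ, z = w ^ k := by
    by_cases h1 : w ^ 13 * w ^ 13 = 1
    · exact ⟨w ^ 13, hr1, h1, 13, rfl⟩
    · refine ⟨w ^ 13 * w ^ 13, h1, ?_, 26, ?_⟩
      · rw [← hr4]
        simp only [← pow_add, ← pow_mul]
      · rw [← pow_add]
  obtain ⟨k, hk⟩ := hzi
  have hzs : Commute z s := by rw [hk]; exact hvs.pow_left k
  have hzt : Commute z t := by rw [hk]; exact hvt.pow_left k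
  have hzy : Commute z y := by rw [hk]; exact hvy.pow_left k
  have h1 := S.only hs ht hsy hty hst hz hz1 hzs hzt hzy (S.conj v t ht) (commute_conj hv.1 hty) (hv.2 t ht hty)
  have hvt' : Commute v t := by
    rw [mul_inv_eq_iff_eq_mul] at h1
    exact h1
  -- `v ∈ C(t) ∩ C(y)`, and `z` too
  have hztne : z ≠ t := by
    rintro rfl
    exact hst hzs.symm
  have hzn : z ∉ zpowers (y * t) := by
    intro h
    rcases S.zc ht hty h hz with h2 | h2
    · exact hz1 h2
    · exact hztne h2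
  -- `v²` is in `⟨y t⟩`
  have h2 : w ∈ zpowers (y * t) := by
    rcases S.dich' ht hty hvt' hv.1 hvt' hv.1 with h | h | h
    · exact mul_mem h h
    · exact mul_mem h h
    · exact h
  apply hzn
  rw [hk]
  exact pow_mem h2 k

theorem sq_one {s t : G} (hs : s ∈ TT) (ht : t ∈ TT) (hsy : Commute s y) (hty : Commute t y) (hst : ¬ Commute s t) {v w : G}
    (hv : InV TT y v) (hw : InV TT y w) (hv2 : v * v = 1) (hw2 : w * w = 1) : (v * w) * (v * w) = 1 := by
  have h1 := S.sq_mem hs ht hsy hty hst (S.inV_mul hv hw)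
  have hvi : v⁻¹ = v := inv_eq_of_mul_eq_one_left hv2
  have hwi : w⁻¹ = w := inv_eq_of_mul_eq_one_left hw2
  set p := (v * w) * (v * w) with hp
  have h2 : Commute v p := by
    obtain ⟨i, hi⟩ := mem_zpowers_iff.1 h1
    rw [← hi]
    exact hv.1.zpow_right i
  have h3 : v * p * v⁻¹ = p⁻¹ := by
    rw [hp, mul_inv_rev, mul_inv_rev, hvi, hwi]
    calc v * (v * w * (v * w)) * v = (v * v) * w * v * w * v := by group
      _ = w * v * (w * v) := by rw [hv2]; group
  rw [h2.eq, mul_inv_cancel_right] at h3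
  have h4 : p * p = 1 := by
    nth_rewrite 2 [h3]
    exact mul_inv_cancel p
  exact S.eq_one_of_sq h1 h4

/-- **At most 3 involutions in `V`.** -/
theorem card_inv {s t : G} (hs : s ∈ TT) (ht : t ∈ TT) (hsy : Commute s y) (hty : Commute t y) (hst : ¬ Commute s t) :
    {v : G | InV TT y v ∧ v * v = 1 ∧ v ≠ 1}.ncard ≤ 3 := by
  classical
  have hVt : ¬ InV TT y t := S.not_inV hs ht hsy hty hst
  -- the nontrivial element of `V ∩ C(t)` of square 1 is unique
  have huniq : ∀ u v : G, InV TT y u → InV TT y v → u * u = 1 → v * v = 1 → u ≠ 1 → v ≠ 1 → Commute u t →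
      Commute v t → u = v := by
    intro u v hu hv hu2 hv2 hu1 hv1 hut hvt
    rcases S.four ht hty hut hu.1 hvt hv.1 hu2 hv2 with (h | h) | (h | h) | h | h
    · exact absurd h hu1
    · exact absurd (h ▸ hu) hVt
    · exact absurd h hv1
    · exact absurd (h ▸ hv) hVt
    · exact h
    · exfalso
      apply hVt
      have h1 : t = u * v⁻¹ := by rw [h, mul_inv_cancel_right]
      rw [h1]
      exact S.inV_mul hu (inV_inv hv)
  set S₁ := {v : G | (InV TT y v ∧ v * v = 1 ∧ v ≠ 1) ∧ v * t * v⁻¹ = t} with hS1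
  set S₂ := {v : G | (InV TT y v ∧ v * v = 1 ∧ v ≠ 1) ∧ v * t * v⁻¹ ≠ t} with hS2
  have hU : {v : G | InV TT y v ∧ v * v = 1 ∧ v ≠ 1} = S₁ ∪ S₂ := by
    ext v
    simp only [hS1, hS2, Set.mem_ofPred_eq, Set.mem_union]
    tauto
  have hn1 : S₁.ncard ≤ 1 := by
    rw [Set.ncard_le_one]
    rintro u ⟨⟨hu, hu2, hu1⟩, hut⟩ v ⟨⟨hv, hv2, hv1⟩, hvt⟩
    rw [mul_inv_eq_iff_eq_mul] at hut hvt
    exact huniq u v hu hv hu2 hv2 hu1 hv1 hut hvt
  have hn2 : S₂.ncard ≤ 2 := by
    rcases S₂.eq_empty_or_nonempty with h | ⟨w, ⟨hw, hw2, hw1⟩, hwt⟩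
    · rw [h, Set.ncard_empty]
      norm_num
    · have h1 : S₂.ncard ≤ (S₁ ∪ {1}).ncard := by
        refine Set.ncard_le_ncard_of_injOn (fun v => w⁻¹ * v) ?_ (fun a _ b _ hab => mul_left_cancel hab)
          (Set.toFinite _)
        rintro v ⟨⟨hv, hv2, hv1⟩, hvt⟩
        -- `v t v⁻¹ = w t w⁻¹`
        have h2 : v * t * v⁻¹ = w * t * w⁻¹ :=
          S.partner ht hty (S.conj v t ht) (S.conj w t ht) (hv.2 t ht hty) (commute_conj hv.1 hty) (hw.2 t ht hty)
            (commute_conj hw.1 hty) hvt hwt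
        have hwi : w⁻¹ = w := inv_eq_of_mul_eq_one_left hw2
        by_cases h3 : w⁻¹ * v = 1
        · right
          exact h3
        · left
          refine ⟨⟨S.inV_mul (inV_inv hw) hv, ?_, h3⟩, ?_⟩
          · rw [hwi]
            exact S.sq_one hs ht hsy hty hst hw hv hw2 hv2
          · calc w⁻¹ * v * t * (w⁻¹ * v)⁻¹ = w⁻¹ * (v * t * v⁻¹) * w := by group
              _ = w⁻¹ * (w * t * w⁻¹) * w := by rw [h2]
              _ = t := by group
      have h2 : (S₁ ∪ {1}).ncard ≤ S₁.ncard + ({1} : Set G).ncard := Set.ncard_union_le _ _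
      rw [Set.ncard_singleton] at h2
      omega
  rw [hU]
  have := Set.ncard_union_le S₁ S₂
  omega

end Sit

/-- **No bad element.** -/
theorem abs (S : Sit TT y) (h3 : 3 ≤ Nat.card {t : G // t ∈ TT ∧ Commute t y}) (h4 : ∃ g : G, g * y * g⁻¹ = y ^ 2)
    {x : G} (hB : Bd 2 x) (hxy : Commute x y) (h2 : 2 ∣ orderOf x) (hx2 : x * x ≠ 1) : False := by
  obtain ⟨s, hs, t, ht, hsy, hty, hst⟩ := S.exists_noncomm h3
  -- `x ∈ V`
  have hxV : InV TT y x := by
    have h1 : InV TT y x⁻¹ := by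
      refine ⟨hxy.inv_left, fun t ht hty => ?_⟩
      have e1 : cm x t = (x⁻¹ * t * x⁻¹⁻¹) * t := by
        have h9 : t⁻¹ = t := inv_eq_of_mul_eq_one_left (S.sq t ht)
        have h10 : (x⁻¹ * t * x)⁻¹ = x⁻¹ * t⁻¹ * x := by group
        rw [cm_eq, h10, h9, inv_inv]
      have h5 : x⁻¹ * t * x⁻¹⁻¹ ∈ TT := S.conj x⁻¹ t ht
      have h6 : Commute (x⁻¹ * t * x⁻¹⁻¹) y := commute_conj hxy.inv_left hty
      rcases S.pr _ h5 t ht h6 hty with h | h | h
      · exact commute_of_sq (S.sq _ h5) (S.sq t ht) h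
      · rcases hB t with h7 | h7
        · rw [e1] at h7
          exact commute_of_sq (S.sq _ h5) (S.sq t ht) (by rw [h7, one_pow])
        · exfalso
          rw [e1] at h7
          have h8 := h7.trans (orderOf_dvd_of_pow_eq_one h)
          norm_num at h8
      · rcases hB t with h7 | h7
        · rw [e1] at h7
          exact commute_of_sq (S.sq _ h5) (S.sq t ht) (by rw [h7, one_pow])
        · exfalso
          rw [e1] at h7
          have h8 := h7.trans (orderOf_dvd_of_pow_eq_one h)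
          norm_num at h8
    have h2 := Sit.inV_inv h1
    rwa [inv_inv] at h2
  -- `x = y^(7 i) σ`
  obtain ⟨i, hi⟩ := mem_zpowers_iff.1 (S.sq_mem hs ht hsy hty hst hxV)
  set b := y ^ (7 * i) with hb
  have hbb : b * b = x * x := by
    rw [hb, ← zpow_add, ← hi]
    have e1 : 7 * i + 7 * i = i + ((13 : ℕ) : ℤ) * i := by push_cast; ring
    rw [e1, zpow_add, zpow_mul, zpow_natCast, S.y_pow, one_zpow, mul_one]
  have hby : b ∈ zpowers y := zpow_mem (mem_zpowers y) _
  have hxb : Commute x b := hxy.zpow_right _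
  set σ := b⁻¹ * x with hσ
  have hxσ : x = b * σ := by rw [hσ, mul_inv_cancel_left]
  have hσV : InV TT y σ := S.inV_mul (Sit.inV_y TT y (inv_mem hby)) hxV
  have hσ2 : σ * σ = 1 := by
    rw [hσ]
    have h5 : Commute x b⁻¹ := hxb.inv_right
    calc b⁻¹ * x * (b⁻¹ * x) = b⁻¹ * (x * b⁻¹) * x := by group
      _ = b⁻¹ * (b⁻¹ * x) * x := by rw [h5.eq]
      _ = b⁻¹ * b⁻¹ * (x * x) := by group
      _ = 1 := by rw [← hbb]; group
  have hb13 : b ^ 13 = 1 := by
    rw [hb, ← zpow_natCast, ← zpow_mul, mul_comm, zpow_mul, zpow_natCast, S.y_pow, one_zpow]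
  have hσ1 : σ ≠ 1 := by
    intro h
    rw [h, mul_one] at hxσ
    rw [hxσ] at h2
    have h5 := h2.trans (orderOf_dvd_of_pow_eq_one hb13)
    norm_num at h5
  have hb1 : b ≠ 1 := by
    intro h
    apply hx2
    rw [hxσ, h, one_mul, hσ2]
  -- the powers of `g`
  obtain ⟨g, hg⟩ := h4
  have hgk : ∀ k : ℕ, g ^ k * y * (g ^ k)⁻¹ = y ^ 2 ^ k := by
    intro k
    induction k with
    | zero => simp
    | succ k ih =>
      calc g ^ (k + 1) * y * (g ^ (k + 1))⁻¹ = g ^ k * (g * y * g⁻¹) * (g ^ k)⁻¹ := by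
            rw [pow_succ]; group
        _ = (g ^ k * y * (g ^ k)⁻¹) ^ 2 := by
            rw [hg]
            rw [conj_pow]
        _ = _ := by rw [ih, ← pow_mul, ← pow_succ]
  have hcomm : ∀ k : ℕ, ∀ h : G, Commute h y ↔ Commute (g ^ k * h * (g ^ k)⁻¹) y := by
    intro k h
    have h13 : (2 ^ k).Coprime 13 := Nat.Coprime.pow_left k (by norm_num)
    have h5 : ∃ m : ℕ, (y ^ 2 ^ k) ^ m = y := by
      rw [← S.ord] at h13
      exact exists_pow_eq_self_of_coprime h13
    have h6 : ∀ a : G, Commute a y ↔ Commute a (y ^ 2 ^ k) := by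
      intro a
      constructor
      · exact fun h => h.pow_right _
      · intro h
        obtain ⟨m, hm⟩ := h5
        rw [← hm]
        exact h.pow_right _
    rw [h6 (g ^ k * h * (g ^ k)⁻¹), ← hgk k]
    exact (Commute.conj_iff (g ^ k)).symm
  have hinv : ∀ k : ℕ, g ^ k * σ * (g ^ k)⁻¹ ∈ {v : G | InV TT y v ∧ v * v = 1 ∧ v ≠ 1} := by
    intro k
    refine ⟨⟨(hcomm k σ).1 hσV.1, fun t ht hty => ?_⟩, ?_, ?_⟩
    · -- `t = g^k t' g^-k`
      set t' := (g ^ k)⁻¹ * t * g ^ k with ht'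
      have e1 : g ^ k * t' * (g ^ k)⁻¹ = t := by rw [ht']; group
      have h5 : t' ∈ TT := by
        have := S.conj (g ^ k)⁻¹ t ht
        rwa [inv_inv] at this
      have h6 : Commute t' y := by
        rw [hcomm k, e1]
        exact hty
      have h7 := hσV.2 t' h5 h6
      have h8 := (Commute.conj_iff (g ^ k)).2 h7
      rw [e1] at h8
      have e2 : g ^ k * (σ * t' * σ⁻¹) * (g ^ k)⁻¹ = g ^ k * σ * (g ^ k)⁻¹ * t * (g ^ k * σ * (g ^ k)⁻¹)⁻¹ := by
        rw [← e1]
        group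
      rwa [e2] at h8
    · calc g ^ k * σ * (g ^ k)⁻¹ * (g ^ k * σ * (g ^ k)⁻¹) = g ^ k * (σ * σ) * (g ^ k)⁻¹ := by group
        _ = 1 := by rw [hσ2]; group
    · intro h5
      apply hσ1
      rw [mul_inv_eq_one] at h5
      exact mul_left_cancel (h5.trans (mul_one _).symm)
  -- pigeonhole
  obtain ⟨m, n, hmn, hn, hc⟩ : ∃ m n : ℕ, m < n ∧ n < 4 ∧ g ^ m * σ * (g ^ m)⁻¹ = g ^ n * σ * (g ^ n)⁻¹ := by
    by_contra hcon
    push Not at hcon
    have h5 : (Set.Iio 4 : Set ℕ).ncard ≤ {v : G | InV TT y v ∧ v * v = 1 ∧ v ≠ 1}.ncard := by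
      refine Set.ncard_le_ncard_of_injOn (fun k => g ^ k * σ * (g ^ k)⁻¹) (fun k _ => hinv k) ?_ (Set.toFinite _)
      intro a ha b hb hab
      rcases lt_trichotomy a b with h | h | h
      · exact absurd hab (hcon a b h hb)
      · exact h
      · exact absurd hab.symm (hcon b a h ha)
    have h6 := S.card_inv hs ht hsy hty hst
    have h7 : (Set.Iio 4 : Set ℕ).ncard = 4 := by
      rw [← Nat.card_coe_set_eq]
      simp
    omega
  obtain ⟨k, rfl⟩ : ∃ k, n = m + k := ⟨n - m, by omega⟩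
  have hσk : g ^ k * σ * (g ^ k)⁻¹ = σ := by
    rw [pow_add] at hc
    have h5 : g ^ m * (g ^ k * σ * (g ^ k)⁻¹) * (g ^ m)⁻¹ = g ^ m * σ * (g ^ m)⁻¹ := by
      rw [hc]
      group
    exact mul_left_cancel (mul_right_cancel h5)
  -- the commutator
  have hbk : g ^ k * b * (g ^ k)⁻¹ = b ^ 2 ^ k := by
    have h5 : g ^ k * y ^ (7 * i) * (g ^ k)⁻¹ = (g ^ k * y * (g ^ k)⁻¹) ^ (7 * i) := by
      rw [conj_zpow]
    rw [hb, h5, hgk k, ← zpow_natCast, ← zpow_natCast, ← zpow_mul, ← zpow_mul, mul_comm]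
  have hσb : Commute σ b := (Commute.refl b).inv_left.mul_left hxb
  have hcm : cm x (g ^ k)⁻¹ = b⁻¹ * b ^ 2 ^ k := by
    have h5 : cm x (g ^ k)⁻¹ = x⁻¹ * (g ^ k * x * (g ^ k)⁻¹) := by
      rw [cm_eq']
      group
    have h6 : g ^ k * x * (g ^ k)⁻¹ = (g ^ k * b * (g ^ k)⁻¹) * (g ^ k * σ * (g ^ k)⁻¹) := by
      nth_rewrite 1 [hxσ]
      group
    rw [h5, h6, hσk, hbk, hxσ]
    have h7 : Commute σ (b ^ 2 ^ k) := hσb.pow_right _
    calc (b * σ)⁻¹ * (b ^ 2 ^ k * σ) = σ⁻¹ * b⁻¹ * (b ^ 2 ^ k * σ) := by rw [mul_inv_rev]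
      _ = σ⁻¹ * b⁻¹ * (σ * b ^ 2 ^ k) := by rw [h7.eq]
      _ = σ⁻¹ * (b⁻¹ * σ) * b ^ 2 ^ k := by group
      _ = σ⁻¹ * (σ * b⁻¹) * b ^ 2 ^ k := by rw [(hσb.inv_right).eq]
      _ = b⁻¹ * b ^ 2 ^ k := by group
  have h13 : (b⁻¹ * b ^ 2 ^ k) ^ 13 = 1 := by
    have h5 : Commute b⁻¹ (b ^ 2 ^ k) := (Commute.refl b).inv_left.pow_right _
    rw [h5.mul_pow, inv_pow, hb13, inv_one, one_mul, ← pow_mul, mul_comm, pow_mul, hb13, one_pow]
  rcases hB (g ^ k)⁻¹ with h5 | h5
  · rw [hcm, inv_mul_eq_one] at h5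
    apply hb1
    have hk : k = 1 ∨ k = 2 ∨ k = 3 := by omega
    have h6 : b ^ (2 ^ k - 1) = 1 := by
      have h7 : b * b ^ (2 ^ k - 1) = b := by
        rw [← pow_succ']
        have h8 : 2 ^ k - 1 + 1 = 2 ^ k := Nat.sub_add_cancel Nat.one_le_two_pow
        rw [h8]
        exact h5.symm
      exact mul_left_cancel (h7.trans (mul_one b).symm)
    rcases hk with rfl | rfl | rfl
    · exact eq_one_of_pow (by norm_num) h6 hb13
    · exact eq_one_of_pow (by norm_num) h6 hb13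
    · exact eq_one_of_pow (by norm_num) h6 hb13
  · rw [hcm] at h5
    have h6 := h5.trans (orderOf_dvd_of_pow_eq_one h13)
    norm_num at h6

end Cfsg.Agent.H182.Bad.BAbs
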