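import Cfsg.Agent.H472.ComRed
import Cfsg.Agent.Lib.Cores
import Cfsg.Agent.Solvable.SchurZassenhausConj
import Cfsg.Agent.S0023
import Cfsg.Prelude.Def_IsolatedElements

/-!
# Coprime action: elements in a coset (helper182)

* `coset_normal`, `coset` : elements `x`, `y` in the same coset of `V`, normalizing `V`, with orders prime to `|V|`, are
  conjugate under `V`;
* `exists_comm` : if `x` normalizes `V`, has order prime to `|V|` and `[x, d] ∈ V`, then `x` commutes with an element of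
  `d V`;
* `relIndex_pow` : the index of `Z` in `Y = V Z`, `V` a `p`-group, is a power of `p`.
-/

set_option autoImplicit false
set_option linter.unusedSectionVars false

namespace Cfsg.Agent.H182.Bad

open Subgroup Cfsg
open Cfsg.Agent.H472.ComRed (cm cm_eq cm_eq' cm_eq_one cm_mem cm_mem_left map_cm)
open Cfsg.Agent.Lib.Cores
open scoped Pointwise

universe u

theorem coset_normal {D : Type*} [Group D] [Finite D] {V : Subgroup D} [hV : V.Normal] {x y : D}
    (hx : (Nat.card V).Coprime (orderOf x)) (hy : (Nat.card V).Coprime (orderOf y)) (hxy : y⁻¹ * x ∈ V) :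
    ∃ w ∈ V, y = w * x * w⁻¹ := by
  set K := V ⊔ zpowers x with hK
  have hcop : (Nat.card V).Coprime (Nat.card (zpowers x)) := by
    rwa [Nat.card_zpowers]
  have hVK : V ≤ K := le_sup_left
  have hmemK : ∀ z : D, z⁻¹ * x ∈ V → z ∈ K := by
    intro z hz
    have : z = x * (z⁻¹ * x)⁻¹ := by group
    rw [this]
    exact mul_mem (mem_sup_right (mem_zpowers x)) (inv_mem (hVK hz))
  have hcompl : ∀ z : D, z⁻¹ * x ∈ V → (Nat.card V).Coprime (orderOf z) →
      IsComplement' (V.subgroupOf K) ((zpowers z).subgroupOf K) := by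
    intro z hz ho
    have hyK : z ∈ K := hmemK z hz
    have hyle : zpowers z ≤ K := zpowers_le.2 hyK
    apply isComplement'_of_disjoint_and_mul_eq_univ
    · rw [disjoint_iff, eq_bot_iff]
      intro k hk
      have h1 : (k : D) ∈ V ⊓ zpowers z := hk
      have h2 : V ⊓ zpowers z = ⊥ := by
        refine (disjoint_of_coprime_natCard ?_).eq_bot
        rwa [Nat.card_zpowers z]
      rw [h2, mem_bot] at h1
      exact Subtype.ext h1
    · rw [Set.eq_univ_iff_forall]
      intro k
      have h1 : (k : D) ∈ V ⊔ zpowers z := by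
        have h2 : V ⊔ zpowers x ≤ V ⊔ zpowers z := by
          refine sup_le le_sup_left (zpowers_le.2 ?_)
          have : x = z * (z⁻¹ * x) := by group
          rw [this]
          exact mul_mem (mem_sup_right (mem_zpowers z)) (mem_sup_left hz)
        exact h2 k.2
      obtain ⟨v, hv, z', hz', hvz⟩ := mem_sup_of_normal_left.1 h1
      exact Set.mem_mul.2 ⟨⟨v, hVK hv⟩, hv, ⟨z', hyle hz'⟩, hz', Subtype.ext hvz⟩
  have h1 := hcompl _ hxy hy
  have h2 := hcompl x (by simp) hx
  have hsolv : Group.IsSolvable (K ⧸ (V.subgroupOf K)) := by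
    have e := h2.symm.QuotientMulEquiv
    have h3 : Group.IsSolvable ↥((zpowers x).subgroupOf K) := by
      have h4 : IsMulCommutative ↥((zpowers x).subgroupOf K) := by
        refine ⟨⟨fun a b => ?_⟩⟩
        apply Subtype.ext
        apply Subtype.ext
        obtain ⟨i, hi⟩ := mem_zpowers_iff.1 (mem_subgroupOf.1 a.2)
        obtain ⟨j, hj⟩ := mem_zpowers_iff.1 (mem_subgroupOf.1 b.2)
        change ((a : K) : D) * ((b : K) : D) = ((b : K) : D) * ((a : K) : D)
        rw [← hi, ← hj]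
        exact ((Commute.refl x).zpow_zpow i j).eq
      exact open scoped IsMulCommutative in inferInstance
    exact Group.isSolvable_of_surjective (f := e.symm.toMonoidHom) e.symm.surjective
  have hcop' : (Nat.card (V.subgroupOf K)).Coprime (V.subgroupOf K).index := by
    have h3 : Nat.card (V.subgroupOf K) = Nat.card V := Nat.card_congr (subgroupOfEquivOfLe hVK).toEquiv
    have h4 : (V.subgroupOf K).index = Nat.card ((zpowers x).subgroupOf K) := h2.symm.index_eq_card
    have h5 : Nat.card ((zpowers x).subgroupOf K) = Nat.card (zpowers x) :=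
      Nat.card_congr (subgroupOfEquivOfLe (le_sup_right : zpowers x ≤ K)).toEquiv
    rw [h3, h4, h5]
    exact hcop
  obtain ⟨k, hk⟩ := Solvable.SchurZassenhausConj.conj_of_solvable (V.subgroupOf K) hcop' (Or.inr hsolv) _ _ h1 h2
  have hyK : y ∈ K := hmemK y hxy
  have h3 : (k : D) * y * (k : D)⁻¹ ∈ zpowers x := by
    have h4 : (MulAut.conj k • (⟨_, hyK⟩ : K)) ∈ MulAut.conj k • (zpowers y).subgroupOf K :=
      Subgroup.smul_mem_pointwise_smul _ _ _ (mem_zpowers _)
    rw [hk] at h4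
    exact h4
  obtain ⟨v, hv, z, hz, hvz⟩ := mem_sup_of_normal_left.1 k.2
  set w := z⁻¹ * v * z with hw
  have hwV : w ∈ V := by
    have := hV.conj_mem v hv z⁻¹
    rwa [inv_inv] at this
  have hk2 : (k : D) = z * w := by rw [← hvz, hw]; group
  have h5 : w * y * w⁻¹ ∈ zpowers x := by
    have e : w * y * w⁻¹ = z⁻¹ * ((k : D) * y * (k : D)⁻¹) * z := by
      rw [hk2]; group
    rw [e]
    exact mul_mem (mul_mem (inv_mem hz) h3) hz
  have h6 : w * y * w⁻¹ * x⁻¹ ∈ V := by
    have e : w * y * w⁻¹ * x⁻¹ = w * (x * ((y⁻¹ * x)⁻¹ * w⁻¹) * x⁻¹) := by group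
    rw [e]
    exact mul_mem hwV (hV.conj_mem _ (mul_mem (inv_mem hxy) (inv_mem hwV)) x)
  have h7 : V ⊓ zpowers x = ⊥ := (disjoint_of_coprime_natCard hcop).eq_bot
  have h8 : w * y * w⁻¹ * x⁻¹ ∈ V ⊓ zpowers x := ⟨h6, (zpowers x).mul_mem h5 ((zpowers x).inv_mem (mem_zpowers x))⟩
  rw [h7, mem_bot, mul_inv_eq_one] at h8
  refine ⟨w⁻¹, inv_mem hwV, ?_⟩
  rw [← h8]
  group

variable {K : Type*} [Group K] [Finite K]

theorem coset {V : Subgroup K} {x y : K} (hn : x ∈ normalizer (V : Set K)) (hx : (Nat.card V).Coprime (orderOf x))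
    (hy : (Nat.card V).Coprime (orderOf y)) (hxy : y⁻¹ * x ∈ V) : ∃ w ∈ V, y = w * x * w⁻¹ := by
  set D := V ⊔ zpowers x with hD
  have hDn : D ≤ normalizer (V : Set K) := sup_le le_normalizer (zpowers_le.2 hn)
  have hVD : V ≤ D := le_sup_left
  have hN : (V.subgroupOf D).Normal := by
    refine ⟨fun n hn d => ?_⟩
    exact (mem_normalizer_iff.1 (hDn d.2) n).1 hn
  have hxD : x ∈ D := mem_sup_right (mem_zpowers x)
  have hyD : y ∈ D := by
    have : y = x * (y⁻¹ * x)⁻¹ := by group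
    rw [this]
    exact mul_mem hxD (inv_mem (hVD hxy))
  have hc : Nat.card (V.subgroupOf D) = Nat.card V := Nat.card_congr (subgroupOfEquivOfLe hVD).toEquiv
  obtain ⟨w, hw, h⟩ := coset_normal (D := D) (V := V.subgroupOf D) (x := ⟨x, hxD⟩) (y := ⟨y, hyD⟩)
    (by rw [hc, Subgroup.orderOf_mk]; exact hx) (by rw [hc, Subgroup.orderOf_mk]; exact hy) hxy
  exact ⟨w, hw, congrArg Subtype.val h⟩

/-- If `x` normalizes `V`, has order prime to `|V|` and `[x, d] ∈ V`, it commutes with an element of `d V`. -/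
theorem exists_comm {V : Subgroup K} {x d : K} (hn : x ∈ normalizer (V : Set K)) (hx : (Nat.card V).Coprime (orderOf x))
    (h : cm x d ∈ V) : ∃ w ∈ V, Commute x (d * w) := by
  obtain ⟨w, hw, h1⟩ := coset (y := d⁻¹ * x * d) hn hx
    (by
      have : d⁻¹ * x * d = MulAut.conj d⁻¹ x := by simp
      rw [this, MulEquiv.orderOf_eq]
      exact hx)
    (by
      have h1 := inv_mem h
      have e : (cm x d)⁻¹ = (d⁻¹ * x * d)⁻¹ * x := by simp only [cm]; group
      rwa [e] at h1)
  refine ⟨w, hw, ?_⟩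
  show x * (d * w) = d * w * x
  calc x * (d * w) = d * (d⁻¹ * x * d) * w := by group
    _ = d * (w * x * w⁻¹) * w := by rw [h1]
    _ = d * w * x := by group

/-- **The index of `Z` in `Y = V Z` is a power of `p`.** -/
theorem relIndex_pow {p : ℕ} [Fact p.Prime] {V Z Y : Subgroup K} (hV : IsPGroup p V) (hVY : V ≤ Y)
    (h : ∀ y ∈ Y, ∃ u ∈ V, u⁻¹ * y ∈ Z) : ∃ n : ℕ, Z.relIndex Y = p ^ n := by
  have hVp : IsPGroup p (V.subgroupOf Y) := hV.comap_of_injective _ Y.subtype_injective
  obtain ⟨n, hn⟩ := hVp.card_orbit (QuotientGroup.mk (1 : Y) : Y ⧸ (Z.subgroupOf Y))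
  refine ⟨n, ?_⟩
  rw [← hn]
  have horb : MulAction.orbit (V.subgroupOf Y) (QuotientGroup.mk (1 : Y) : Y ⧸ (Z.subgroupOf Y)) = Set.univ := by
    rw [Set.eq_univ_iff_forall]
    intro e
    obtain ⟨e, rfl⟩ := QuotientGroup.mk_surjective e
    obtain ⟨v, hv, hc⟩ := h e e.2
    refine ⟨⟨⟨v, hVY hv⟩, hv⟩, ?_⟩
    show (QuotientGroup.mk ((⟨v, hVY hv⟩ : Y) * 1) : Y ⧸ (Z.subgroupOf Y)) = QuotientGroup.mk e
    rw [mul_one, QuotientGroup.eq]
    exact hc
  rw [horb, Subgroup.relIndex, Subgroup.index, Nat.card_congr (Equiv.Set.univ _)]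

end Cfsg.Agent.H182.Bad
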