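import Cfsg.Agent.H182.Bad.Base

/-!
# Bad elements: isolated powers, indices of centralizers (helper182)
-/

set_option autoImplicit false
set_option linter.unusedSectionVars false

namespace Cfsg.Agent.H182.Bad

open Subgroup Cfsg
open Cfsg.Agent.H472.ComRed (cm cm_eq cm_eq' cm_eq_one cm_mem cm_mem_left map_cm)
open Cfsg.Agent.Lib.Cores
open Cfsg.Agent.H509.TwoFrame (core core_le core_isPGroup core_conj le_core core_map_conj cm_conj)
open scoped Pointwise

universe u

/-- The Z*-statement at the prime `q` for the group `K`. -/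
def ZSt (q : ℕ) (K : Type*) [Group K] : Prop :=
  ∀ (S : Sylow q K) (x : K), x ∈ (S : Subgroup K) →
    (∀ g : K, g * x * g⁻¹ ∈ (S : Subgroup K) → g * x * g⁻¹ = x) → InZStar q x

section

variable {K : Type*} [Group K] [Finite K] {p : ℕ} [hp : Fact p.Prime] {v : K}

theorem le_cent_pow (v : K) (c : ℕ) : centralizer ({v} : Set K) ≤ centralizer ({v ^ c} : Set K) := by
  intro g hg
  rw [mem_centralizer_singleton_iff] at hg ⊢
  have h : Commute g v := hg
  exact (h.pow_right c).eq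

theorem mem_cent_pow (v : K) (c : ℕ) : v ∈ centralizer ({v ^ c} : Set K) := by
  rw [mem_centralizer_singleton_iff]
  exact (Commute.self_pow v c).eq

/-- The centralizer of `v` has `p`-power index in `C(v ^ c)`. -/
theorem relIndex_cent (hv : ¬ p ∣ orderOf v) {c : ℕ} (hI : Cen p v (centralizer ({v ^ c} : Set K))) :
    ∃ n : ℕ, (centralizer ({v} : Set K)).relIndex (centralizer ({v ^ c} : Set K)) = p ^ n := by
  refine relIndex_pow (core_isPGroup p (centralizer ({v ^ c} : Set K))) (core_le p _) fun y hy => ?_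
  obtain ⟨w, hw, h⟩ := exists_comm (V := core p (centralizer ({v ^ c} : Set K))) (x := v) (d := y⁻¹)
    (mem_normalizer_core (mem_cent_pow v c)) (coprime_core (core_isPGroup p _) hv) (hI y⁻¹ (inv_mem hy))
  refine ⟨w, hw, ?_⟩
  rw [mem_centralizer_singleton_iff]
  have h1 : Commute (w⁻¹ * y) v := by
    have h2 := h.inv_right
    rw [mul_inv_rev, inv_inv] at h2
    exact h2.symm
  exact h1.eq

/-- **`b = v ^ c` is central modulo `O_{q'}`**. -/
theorem isol (h : Bd p v) (hv : ¬ p ∣ orderOf v) {q : ℕ} [hq : Fact q.Prime] (hqp : q ≠ p) (hZ : ZSt q K) {c k : ℕ}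
    (hb : (v ^ c) ^ q ^ k = 1) (hI : Cen p v (centralizer ({v ^ c} : Set K))) : InZStar q (v ^ c) := by
  set b := v ^ c with hbdef
  set Z := centralizer ({v} : Set K) with hZdef
  set C := centralizer ({b} : Set K) with hC
  have hZC : Z ≤ C := le_cent_pow v c
  obtain ⟨S⟩ : Nonempty (Sylow q Z) := inferInstance
  set Q := (S : Subgroup Z).map Z.subtype with hQ
  have hQZ : Q ≤ Z := map_subtype_le _
  have hQq : IsPGroup q Q := S.isPGroup'.map _
  have hbZ : b ∈ Z := by
    rw [hZdef, mem_centralizer_singleton_iff]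
    exact (Commute.pow_self v c).eq
  have hbQ : b ∈ Q := by
    have h1 : zpowers (⟨b, hbZ⟩ : Z) ≤ pCore q Z := by
      refine le_pCore ?_ (isPGroup_zp (n := k) (Subtype.ext hb))
      refine ⟨fun z hz g => ?_⟩
      obtain ⟨i, rfl⟩ := hz
      have h5 : Commute g (⟨b, hbZ⟩ : Z) := by
        apply Subtype.ext
        have hg : Commute (g : K) v := mem_centralizer_singleton_iff.1 g.2
        exact (hg.pow_right c).eq
      have h6 : Commute g ((⟨b, hbZ⟩ : Z) ^ i) := h5.zpow_right i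
      have h7 : g * (⟨b, hbZ⟩ : Z) ^ i * g⁻¹ = (⟨b, hbZ⟩ : Z) ^ i := by
        rw [h6.eq, mul_inv_cancel_right]
      exact ⟨i, h7.symm⟩
    exact ⟨⟨b, hbZ⟩, pCore_le_sylow S (h1 (mem_zpowers _)), rfl⟩
  have hidx : ¬ q ∣ Q.relIndex C := by
    obtain ⟨n, hn⟩ := relIndex_cent hv hI
    rw [← relIndex_mul_relIndex Q Z C hQZ hZC, hn]
    intro h1
    rcases hq.out.dvd_mul.1 h1 with h2 | h2
    · have h3 : Q.relIndex Z = (S : Subgroup Z).index := by
        rw [Subgroup.relIndex, hQ, Subgroup.subgroupOf, Subgroup.comap_map_eq_self_of_injective Z.subtype_injective]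
      rw [h3] at h2
      exact S.not_dvd_index h2
    · exact hqp ((Nat.prime_dvd_prime_iff_eq hq.out hp.out).1 (hq.out.dvd_of_dvd_pow h2))
  -- fusion
  have hfus : ∀ g : K, g⁻¹ * b * g ∈ Q → g⁻¹ * b * g = b := by
    intro g hg
    set x := g⁻¹ * v * g with hx
    have hxc : x ^ c = g⁻¹ * b * g := by
      have e : x = MulAut.conj g⁻¹ v := by simp [hx]
      rw [e, ← map_pow]
      simp [hbdef]
    have hcen := hI.conj g
    set D := C.map (MulAut.conj g⁻¹).toMonoidHom with hD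
    have hxD : x ∈ D := ⟨v, mem_cent_pow v c, by simp [hx]⟩
    have hDc : ∀ d ∈ D, d * (g⁻¹ * b * g) = g⁻¹ * b * g * d := by
      rintro _ ⟨d, hd, rfl⟩
      have h1 : d * b = b * d := mem_centralizer_singleton_iff.1 hd
      change (g⁻¹ * d * g⁻¹⁻¹) * (g⁻¹ * b * g) = g⁻¹ * b * g * (g⁻¹ * d * g⁻¹⁻¹)
      calc (g⁻¹ * d * g⁻¹⁻¹) * (g⁻¹ * b * g) = g⁻¹ * (d * b) * g := by group
        _ = g⁻¹ * (b * d) * g := by rw [h1]
        _ = _ := by group
    have hvD : v ∈ D := by
      refine ⟨g * v * g⁻¹, ?_, by simp [mul_assoc]⟩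
      have h1 : g⁻¹ * b * g * v = v * (g⁻¹ * b * g) := mem_centralizer_singleton_iff.1 (hQZ hg)
      show g * v * g⁻¹ ∈ C
      rw [hC, mem_centralizer_singleton_iff]
      calc g * v * g⁻¹ * b = g * (v * (g⁻¹ * b * g)) * g⁻¹ := by group
        _ = g * (g⁻¹ * b * g * v) * g⁻¹ := by rw [h1]
        _ = b * (g * v * g⁻¹) := by group
    have hx' : ¬ p ∣ orderOf x := by rwa [hx, order_conj]
    obtain ⟨w, hw, hc⟩ := exists_conj_commute hv hx' hvD hxD hcen
    have hwD : w ∈ D := core_le p D hw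
    have e1 : w⁻¹ * x * w = (g * w)⁻¹ * v * (g * w) := by rw [hx]; group
    rw [e1] at hc
    have h1 := h.eq_of_commute hv hc
    rw [← e1] at h1
    -- `b = (w⁻¹ x w) ^ c = w⁻¹ (g⁻¹ b g) w = g⁻¹ b g`
    have h2 : w⁻¹ * x ^ c * w = b := by
      have e : w⁻¹ * x ^ c * w = (w⁻¹ * x * w) ^ c := by
        have e3 : w⁻¹ * x * w = MulAut.conj w⁻¹ x := by simp
        rw [e3, ← map_pow]
        simp
      rw [e, h1]
    rw [hxc] at h2
    have h3 := hDc w hwD
    calc g⁻¹ * b * g = w⁻¹ * (w * (g⁻¹ * b * g)) := by group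
      _ = w⁻¹ * (g⁻¹ * b * g * w) := by rw [h3]
      _ = w⁻¹ * (g⁻¹ * b * g) * w := by group
      _ = b := h2
  -- `Q` is a Sylow subgroup of `K`
  obtain ⟨T, hT⟩ := hQq.exists_le_sylow
  have hTQ : (T : Subgroup K) = Q := by
    refine le_antisymm ?_ hT
    by_contra hne
    have hlt : Q.subgroupOf T < ⊤ := by
      refine lt_top_iff_ne_top.2 fun h => hne (subgroupOf_eq_top.1 h)
    have hnil : Group.IsNilpotent (T : Subgroup K) := T.isPGroup'.isNilpotent
    have h1 := Group.normalizerCondition_of_isNilpotent (Q.subgroupOf T) hlt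
    obtain ⟨t, ht, htQ⟩ := SetLike.exists_of_lt h1
    have h2 : ((t : K))⁻¹ * b * t ∈ Q := by
      have h3 := (mem_normalizer_iff.1 (inv_mem ht) ⟨b, hT hbQ⟩).1 hbQ
      rw [inv_inv] at h3
      exact h3
    have h3 := hfus _ h2
    have h4 : (t : K) ∈ C := by
      rw [hC, mem_centralizer_singleton_iff]
      calc (t : K) * b = t * ((t : K)⁻¹ * b * t) := by rw [h3]
        _ = b * t := by group
    set R := Q ⊔ zpowers (t : K) with hR
    have hRT : R ≤ T := sup_le hT (zpowers_le.2 t.2)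
    have hRC : R ≤ C := sup_le (hQZ.trans hZC) (zpowers_le.2 h4)
    have hRq : IsPGroup q R := T.isPGroup'.to_le hRT
    have h5 : Q.relIndex R ∣ Q.relIndex C := Dvd.intro _ (relIndex_mul_relIndex Q R C le_sup_left hRC)
    have h6 : Q.relIndex R = 1 := by
      obtain ⟨a, ha⟩ := IsPGroup.iff_card.1 hRq
      have h7 : Q.relIndex R ∣ q ^ a := by
        rw [← ha]
        exact relIndex_dvd_card _ _
      obtain ⟨m, -, hm⟩ := (Nat.dvd_prime_pow hq.out).1 h7
      rcases Nat.eq_zero_or_pos m with rfl | hm0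
      · rw [hm, pow_zero]
      · exfalso
        exact hidx ((dvd_pow_self q hm0.ne').trans (hm ▸ h5))
    exact htQ ((relIndex_eq_one.1 h6) (mem_sup_right (mem_zpowers (t : K))))
  refine hZ T b (hTQ ▸ hbQ) fun g hg => ?_
  have h1 := hfus g⁻¹ (by rw [inv_inv, ← hTQ]; exact hg)
  rwa [inv_inv] at h1

/-- the primes dividing `|Y : C_Y(v)|` are equal to `p` -/
def Rp (p : ℕ) {K : Type*} [Group K] (v : K) (Y : Subgroup K) : Prop :=
  ∀ s : ℕ, s.Prime → s ≠ p → ¬ s ∣ (centralizer ({v} : Set K)).relIndex Y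

theorem Rp.base (h : Bd p v) {Y : Subgroup K} (hY : v ∈ normalizer (Y : Set K)) (hc : (orderOf v).Coprime (Nat.card Y)) :
    Rp p v Y := by
  intro s hs hsp hdvd
  have hsf : Fact s.Prime := ⟨hs⟩
  obtain ⟨P, hP⟩ := Cfsg.Agent.S0023.result (zpowers v) Y (zpowers_le.2 hY) (by rwa [Nat.card_zpowers])
    (Or.inl (by
      have h4 : IsMulCommutative ↥(zpowers v) := inferInstance
      exact open scoped IsMulCommutative in inferInstance)) s
  set Q := (P : Subgroup Y).map Y.subtype with hQ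
  have hQs : IsPGroup s Q := P.isPGroup'.map _
  have hQp : ¬ p ∣ Nat.card Q := by
    obtain ⟨n, hn⟩ := IsPGroup.iff_card.1 hQs
    rw [hn]
    intro h1
    exact hsp ((Nat.prime_dvd_prime_iff_eq hp.out hs).1 (hp.out.dvd_of_dvd_pow h1)).symm
  have hle : Q ≤ centralizer ({v} : Set K) := by
    intro g hg
    rw [mem_centralizer_singleton_iff]
    exact (h.commute_of_mem hQp (hP (mem_zpowers v)) hg).symm.eq
  have h1 : (centralizer ({v} : Set K)).relIndex Y ∣ Q.relIndex Y := relIndex_dvd_of_le_left Y hle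
  have h3 : Q.relIndex Y = (P : Subgroup Y).index := by
    rw [Subgroup.relIndex, hQ, Subgroup.subgroupOf, Subgroup.comap_map_eq_self_of_injective Y.subtype_injective]
  rw [h3] at h1
  exact P.not_dvd_index (hdvd.trans h1)

theorem Rp.step (hv : ¬ p ∣ orderOf v) {Y : Subgroup K} (hY : Y.Normal) {r : ℕ} [Fact r.Prime] {c k : ℕ}
    (hb : (v ^ c) ^ r ^ k = 1) (hI : Cen p v (centralizer ({v ^ c} : Set K))) (hz : InZStar r (v ^ c))
    (hR : Rp p v (Y ⊓ pPrimeCore r K)) : Rp p v Y := by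
  set b := v ^ c with hbdef
  set Z := centralizer ({v} : Set K) with hZdef
  set C := centralizer ({b} : Set K) with hC
  set A := pPrimeCore r K with hA
  have hAn : A.Normal := Cfsg.Agent.Lib.Cores.pPrimeCore_normal (G := K) r
  set Y' := Y ⊓ A with hY'
  have hY'n : Y'.Normal := inferInstance
  set H := Z ⊓ Y with hH
  set W := Y' ⊔ H with hW
  set U := core p C ⊓ Y with hU
  have hUp : IsPGroup p U := (core_isPGroup p C).to_le inf_le_left
  have hcY : (Nat.card Y').Coprime (orderOf b) := by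
    have h1 : (Nat.card Y').Coprime r :=
      Nat.Coprime.coprime_dvd_left (Subgroup.card_dvd_of_le (inf_le_right : Y' ≤ A)) (pPrimeCore_coprime (G := K) r)
    exact Nat.Coprime.coprime_dvd_right (orderOf_dvd_of_pow_eq_one hb) (h1.pow_right k)
  have hvC : v ∈ C := mem_cent_pow v c
  have hUn : ∀ d ∈ C, ∀ x ∈ U, d * x * d⁻¹ ∈ U := fun d hd x hx => ⟨core_conj hx.1 hd, hY.conj_mem x hx.2 d⟩
  have hmain : ∀ y ∈ Y, ∃ x ∈ U, x⁻¹ * y ∈ W := by
    intro y hy
    have h1 : cm b y ∈ Y' := by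
      refine ⟨cm_mem hY b hy, ?_⟩
      have h2 := hz y⁻¹
      have h3 := hAn.conj_mem _ h2 b⁻¹
      have e : cm b y = b⁻¹ * (y⁻¹ * b * y⁻¹⁻¹ * b⁻¹) * b⁻¹⁻¹ := by
        simp only [cm]
        group
      rw [e]
      exact h3
    obtain ⟨w, hw, hwc⟩ := exists_comm (V := Y') (x := b) (d := y)
      (mem_normalizer_fintype fun n hn => hY'n.conj_mem n hn b) hcY h1
    have hdC : y * w ∈ C := mem_centralizer_singleton_iff.2 hwc.symm.eq
    have hdY : y * w ∈ Y := mul_mem hy hw.1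
    obtain ⟨w₂, hw₂, hwc₂⟩ := exists_comm (V := U) (x := v) (d := y * w) (mem_normalizer_fintype fun n hn => hUn v hvC n hn)
      (coprime_core hUp hv) ⟨hI _ hdC, cm_mem hY v hdY⟩
    have hhH : y * w * w₂ ∈ H := ⟨mem_centralizer_singleton_iff.2 hwc₂.symm.eq, mul_mem hdY hw₂.2⟩
    have hhC : y * w * w₂ ∈ C := mul_mem hdC (core_le p C hw₂.1)
    refine ⟨y * w * w₂ * w₂⁻¹ * (y * w * w₂)⁻¹, hUn _ hhC _ (inv_mem hw₂), ?_⟩
    have e : (y * w * w₂ * w₂⁻¹ * (y * w * w₂)⁻¹)⁻¹ * y = (y * w * w₂) * w⁻¹ := by group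
    rw [e]
    exact mul_mem (mem_sup_right hhH) (mem_sup_left (inv_mem hw))
  obtain ⟨n, hn⟩ := relIndex_pow hUp inf_le_right hmain
  have hWY : W ≤ Y := sup_le inf_le_left inf_le_right
  intro s hs hsp hdvd
  have h1 : Z.relIndex Y = Z.relIndex Y' * p ^ n := by
    rw [← hn, ← inf_relIndex_right Z Y, ← relIndex_mul_relIndex H W Y le_sup_right hWY, hW, relIndex_sup_eq]
    congr 1
    rw [← inf_relIndex_right H Y', ← inf_relIndex_right Z Y']
    congr 1
    rw [hH, hY', inf_assoc, ← inf_assoc Y Y A, inf_idem]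
  rw [h1] at hdvd
  rcases hs.dvd_mul.1 hdvd with h2 | h2
  · exact hR s hs hsp h2
  · exact hsp ((Nat.prime_dvd_prime_iff_eq hs hp.out).1 (hs.dvd_of_dvd_pow h2))

end

end Cfsg.Agent.H182.Bad
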