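import Cfsg.Agent.H182.Bad.Isol

/-!
# Bad `p'`-elements are central modulo `O_p` (helper182)

`Bd p v` : all commutators `[v, g]` are trivial or of order divisible by `p`.

* `main` : **if `v` is a `p'`-element of a finite group `K` with `Bd p v`, then `[v, g] ∈ O_p(K)` for all `g`** (given
  the Z*-statements at the primes `q ≠ p`).
-/

set_option autoImplicit false
set_option linter.unusedSectionVars false

namespace Cfsg.Agent.H182.Bad

open Subgroup Cfsg
open Cfsg.Agent.H472.ComRed (cm cm_eq cm_eq' cm_eq_one cm_mem cm_mem_left map_cm)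
open Cfsg.Agent.Lib.Cores
open Cfsg.Agent.H509.TwoFrame (core core_le core_isPGroup core_conj le_core core_map_conj cm_conj)
open scoped Pointwise

universe u

section

variable {K : Type*} [Group K] [Finite K] {p : ℕ} [hp : Fact p.Prime] {v : K}

theorem Rp.all (h : Bd p v) (hv : ¬ p ∣ orderOf v)
    (hall : ∀ r : ℕ, r.Prime → r ∣ orderOf v → ∃ c k : ℕ, (v ^ c) ^ r ^ k = 1 ∧ Cen p v (centralizer ({v ^ c} : Set K)) ∧
      InZStar r (v ^ c)) (s : Finset ℕ) :
    ∀ Y : Subgroup K, Y.Normal → (∀ r : ℕ, r.Prime → r ∣ orderOf v → r ∣ Nat.card Y → r ∈ s) → Rp p v Y := by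
  classical
  induction s using Finset.induction_on with
  | empty =>
    intro Y hY hs
    refine Rp.base h (mem_normalizer_fintype fun n hn => hY.conj_mem n hn v) ?_
    rw [Nat.coprime_iff_gcd_eq_one]
    by_contra hg
    obtain ⟨r, hr, hrg⟩ := Nat.exists_prime_and_dvd hg
    exact Finset.notMem_empty r (hs r hr (hrg.trans (Nat.gcd_dvd_left _ _)) (hrg.trans (Nat.gcd_dvd_right _ _)))
  | insert r s _ ih =>
    intro Y hY hs
    by_cases hr : r.Prime ∧ r ∣ orderOf v
    · obtain ⟨hrp, hrv⟩ := hr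
      have hrf : Fact r.Prime := ⟨hrp⟩
      obtain ⟨c, k, hb, hI, hz⟩ := hall r hrp hrv
      have hn : (Y ⊓ pPrimeCore r K).Normal := by
        have := Cfsg.Agent.Lib.Cores.pPrimeCore_normal (G := K) r
        infer_instance
      refine Rp.step hv hY hb hI hz (ih _ hn ?_)
      intro r' hr' hr'v hr'Y
      have h1 : r' ∈ insert r s := hs r' hr' hr'v (hr'Y.trans (Subgroup.card_dvd_of_le inf_le_left))
      rcases Finset.mem_insert.1 h1 with rfl | h2
      · exfalso
        have h3 : r' ∣ Nat.card (pPrimeCore r' K) := hr'Y.trans (Subgroup.card_dvd_of_le inf_le_right)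
        exact hr'.one_lt.ne' (Nat.eq_one_of_dvd_coprimes (pPrimeCore_coprime (G := K) r') h3 dvd_rfl)
      · exact h2
    · refine ih Y hY fun r' hr' hr'v hr'Y => ?_
      have h1 : r' ∈ insert r s := hs r' hr' hr'v hr'Y
      rcases Finset.mem_insert.1 h1 with rfl | h2
      · exact absurd ⟨hr', hr'v⟩ hr
      · exact h2

/-- The normal `p`-subgroup generated by the commutators of `b`. -/
theorem mem_pCore_of_le {b : K} {T : Subgroup K} (hT : IsPGroup p T) (h : ∀ g, cm b g ∈ T) (g : K) : cm b g ∈ pCore p K := by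
  set N := closure (Set.range (cm b)) with hN
  have hNT : N ≤ T := by
    rw [hN, closure_le]
    rintro _ ⟨g, rfl⟩
    exact h g
  have hNn : N.Normal := by
    refine ⟨fun n hn x => ?_⟩
    rw [hN] at hn
    induction hn using closure_induction with
    | mem y hy =>
      obtain ⟨g, rfl⟩ := hy
      have e : x * cm b g * x⁻¹ = (cm b x⁻¹)⁻¹ * cm b (g * x⁻¹) := by
        simp only [cm]
        group
      rw [e]
      exact mul_mem (inv_mem (subset_closure ⟨_, rfl⟩)) (subset_closure ⟨_, rfl⟩)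
    | one =>
      rw [mul_one, mul_inv_cancel]
      exact one_mem _
    | mul y z _ _ hy hz =>
      have e : x * (y * z) * x⁻¹ = (x * y * x⁻¹) * (x * z * x⁻¹) := by group
      rw [e]
      exact mul_mem hy hz
    | inv y _ hy =>
      have e : x * y⁻¹ * x⁻¹ = (x * y * x⁻¹)⁻¹ := by group
      rw [e]
      exact inv_mem hy
  exact le_pCore hNn (hT.to_le hNT) (subset_closure ⟨g, rfl⟩)

theorem final_b {q : ℕ} [Fact q.Prime] {c k : ℕ} (hb : (v ^ c) ^ q ^ k = 1)
    (hz : InZStar q (v ^ c)) (hR : Rp p v (pPrimeCore q K)) (g : K) : cm (v ^ c) g ∈ pCore p K := by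
  set b := v ^ c with hbdef
  set A := pPrimeCore q K with hA
  have hAn : A.Normal := Cfsg.Agent.Lib.Cores.pPrimeCore_normal (G := K) q
  have hbA : b ∈ normalizer (A : Set K) := mem_normalizer_fintype fun n hn => hAn.conj_mem n hn b
  have hcop : (Nat.card A).Coprime (orderOf b) :=
    Nat.Coprime.coprime_dvd_right (orderOf_dvd_of_pow_eq_one hb) ((pPrimeCore_coprime (G := K) q).pow_right k)
  obtain ⟨P, hP⟩ := Cfsg.Agent.S0023.result (zpowers b) A (zpowers_le.2 hbA) (by rw [Nat.card_zpowers]; exact hcop.symm)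
    (Or.inl (by
      have h4 : IsMulCommutative ↥(zpowers b) := inferInstance
      exact open scoped IsMulCommutative in inferInstance)) p
  set T := (P : Subgroup A).map A.subtype with hT
  have hTA : T ≤ A := map_subtype_le _
  have hTp : IsPGroup p T := P.isPGroup'.map _
  have hTi : ¬ p ∣ T.relIndex A := by
    have h3 : T.relIndex A = (P : Subgroup A).index := by
      rw [Subgroup.relIndex, hT, Subgroup.subgroupOf, Subgroup.comap_map_eq_self_of_injective A.subtype_injective]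
    rw [h3]
    exact P.not_dvd_index
  have hc : ((centralizer ({v} : Set K)).relIndex A).Coprime (T.relIndex A) := by
    rw [Nat.coprime_iff_gcd_eq_one]
    by_contra hg
    obtain ⟨s, hs, hsg⟩ := Nat.exists_prime_and_dvd hg
    by_cases hsp : s = p
    · subst hsp
      exact hTi (hsg.trans (Nat.gcd_dvd_right _ _))
    · exact hR s hs hsp (hsg.trans (Nat.gcd_dvd_left _ _))
  refine mem_pCore_of_le hTp ?_ g
  intro g
  have h1 : cm b g ∈ A := by
    have h2 := hz g⁻¹
    have h3 := hAn.conj_mem _ h2 b⁻¹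
    have e : cm b g = b⁻¹ * (g⁻¹ * b * g⁻¹⁻¹ * b⁻¹) * b⁻¹⁻¹ := by
      simp only [cm]
      group
    rw [e]
    exact h3
  obtain ⟨w, hw, hwc⟩ := exists_comm (V := A) (x := b) (d := g) hbA hcop h1
  obtain ⟨t, ht, htw⟩ := exists_of_coprime hTA hc (a := w) hw
  -- `g w` and `t⁻¹ w` commute with `b`, so `b^g = b^(t⁻¹)`
  have h2 : Commute b (t⁻¹ * w) := by
    have h3 : Commute (t⁻¹ * w) v := mem_centralizer_singleton_iff.1 htw
    exact (h3.pow_right c).symm
  have h3 : Commute b (g * w * (t⁻¹ * w)⁻¹) := hwc.mul_right h2.inv_right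
  have h4 : g * w * (t⁻¹ * w)⁻¹ = g * t := by group
  rw [h4] at h3
  have h5 : cm b g = cm b t⁻¹ := by
    have h6 : b * (g * t) = g * t * b := h3
    simp only [cm]
    rw [inv_inv]
    have h7 : g⁻¹ * b * g = t * b * t⁻¹ := by
      calc g⁻¹ * b * g = g⁻¹ * (b * (g * t)) * t⁻¹ := by group
        _ = g⁻¹ * (g * t * b) * t⁻¹ := by rw [h6]
        _ = t * b * t⁻¹ := by group
    calc b⁻¹ * g⁻¹ * b * g = b⁻¹ * (g⁻¹ * b * g) := by group
      _ = b⁻¹ * (t * b * t⁻¹) := by rw [h7]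
      _ = b⁻¹ * t * b * t⁻¹ := by group
  rw [h5, cm_eq]
  have hbT : b ∈ normalizer (T : Set K) := hP (mem_zpowers b)
  refine mul_mem (inv_mem ?_) (inv_mem ht)
  have h6 := (mem_normalizer_iff.1 (inv_mem hbT) t⁻¹).1 (inv_mem ht)
  rwa [inv_inv] at h6

theorem central_of_parts
    (h : ∀ q : ℕ, q.Prime → q ∣ orderOf v → ∃ c : ℕ, c ≡ 1 [MOD q] ∧ ∀ g, cm (v ^ c) g ∈ pCore p K) (g : K) :
    cm v g ∈ pCore p K := by
  set P := pCore p K with hP
  have hPn : P.Normal := Cfsg.Agent.Lib.Cores.pCore_normal (G := K) p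
  let π := QuotientGroup.mk' P
  let ρ := QuotientGroup.mk' (center (K ⧸ P))
  have hcen : ∀ x : K, (∀ g, cm x g ∈ P) ↔ ρ (π x) = 1 := by
    intro x
    have h1 : ρ (π x) = 1 ↔ π x ∈ center (K ⧸ P) := QuotientGroup.eq_one_iff _
    rw [h1, mem_center_iff]
    constructor
    · intro h2 y
      obtain ⟨y, rfl⟩ := QuotientGroup.mk'_surjective P y
      have h3 : π (cm x y) = 1 := (QuotientGroup.eq_one_iff _).2 (h2 y)
      rw [map_cm] at h3
      exact (cm_eq_one.1 h3).symm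
    · intro h2 y
      have h3 : π (cm x y) = 1 := by
        rw [map_cm]
        exact cm_eq_one.2 (h2 (π y)).symm
      exact (QuotientGroup.eq_one_iff _).1 h3
  revert g
  rw [hcen]
  set x := ρ (π v) with hx
  rw [← orderOf_eq_one_iff]
  by_contra hne
  obtain ⟨q, hq, hqx⟩ := Nat.exists_prime_and_dvd hne
  have h1 : orderOf x ∣ orderOf v := (orderOf_map_dvd ρ (π v)).trans (orderOf_map_dvd π v)
  obtain ⟨c, hc, hc2⟩ := h q hq (hqx.trans h1)
  have h2 : x ^ c = 1 := by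
    rw [hx, ← map_pow, ← map_pow]
    exact (hcen _).1 hc2
  have h3 : q ∣ c := hqx.trans (orderOf_dvd_of_pow_eq_one h2)
  have h4 : q ∣ 1 := (Nat.ModEq.dvd_iff hc dvd_rfl).1 h3
  exact hq.one_lt.ne' (Nat.dvd_one.1 h4)

theorem exists_parts {q : ℕ} (hq : q.Prime) (hqv : q ∣ orderOf v) : ∃ c k m : ℕ, (v ^ c) ^ q ^ k = 1 ∧ c ≡ 1 [MOD q] ∧
    (v * (v ^ c)⁻¹) ^ m = 1 ∧ 0 < m ∧ m < orderOf v ∧ m ∣ orderOf v := by
  obtain ⟨k, m, hm, hn⟩ := Nat.exists_eq_pow_mul_and_not_dvd (orderOf_pos v).ne' q hq.ne_one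
  have hk0 : k ≠ 0 := by
    rintro rfl
    rw [pow_zero, one_mul] at hn
    exact hm (hn ▸ hqv)
  have hm0 : 0 < m := by
    rcases Nat.eq_zero_or_pos m with rfl | h
    · exact absurd (dvd_zero q) hm
    · exact h
  have hcop : (q ^ k).Coprime m := ((Nat.Prime.coprime_iff_not_dvd hq).2 hm).pow_left k
  obtain ⟨c, hc1, hc2⟩ := Nat.chineseRemainder hcop 1 0
  refine ⟨c, k, m, ?_, hc1.of_dvd (dvd_pow_self q hk0), ?_, hm0, ?_, ?_⟩
  · rw [← pow_mul, ← orderOf_dvd_iff_pow_eq_one, hn, mul_comm]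
    exact Nat.mul_dvd_mul_right ((Nat.modEq_zero_iff_dvd).1 hc2) _
  · have h1 : Commute v (v ^ c)⁻¹ := (Commute.self_pow v c).inv_right
    rw [h1.mul_pow, inv_pow, ← pow_mul, mul_inv_eq_one]
    apply pow_eq_pow_iff_modEq.2
    rw [hn]
    have h2 := hc1.mul_right' m
    rw [one_mul] at h2
    exact h2.symm
  · rw [hn]
    calc m = 1 * m := (one_mul m).symm
      _ < q ^ k * m := Nat.mul_lt_mul_of_pos_right (Nat.one_lt_pow hk0 hq.one_lt) hm0
  · rw [hn]
    exact dvd_mul_left _ _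

end

/-- The Z*-statements at the primes different from `p`, all groups in the universe `u`. -/
def ZAll (p : ℕ) : Prop := ∀ (K : Type u) [Group K] [Finite K] (q : ℕ) [Fact q.Prime], q ≠ p → ZSt q K

theorem main_aux {p : ℕ} [hp : Fact p.Prime] (hZ : ZAll.{u} p) (n : ℕ) : ∀ (K : Type u) [Group K] [Finite K] (v : K),
    orderOf v = n → ¬ p ∣ n → Bd p v → ∀ g, cm v g ∈ pCore p K := by
  induction n using Nat.strong_induction_on with
  | _ n ih =>
  intro K _ _ v hn hv h
  rw [← hn] at hv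
  have hcen : ∀ q : ℕ, q.Prime → q ∣ orderOf v → ∃ c k : ℕ, (v ^ c) ^ q ^ k = 1 ∧ c ≡ 1 [MOD q] ∧
      Cen p v (centralizer ({v ^ c} : Set K)) := by
    intro q hq hqv
    obtain ⟨c, k, m, h1, h2, h3, hm0, hm1, hm2⟩ := exists_parts hq hqv
    refine ⟨c, k, h1, h2, ?_⟩
    have hvb : Commute v (v ^ c) := Commute.self_pow v c
    have hm' : v * (v ^ c)⁻¹ ∈ centralizer ({v ^ c} : Set K) := by
      rw [mem_centralizer_singleton_iff]
      exact (hvb.mul_left (Commute.refl (v ^ c)).inv_left).eq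
    have hB := h.mul_inv hvb hm'
    have ho : orderOf (⟨v * (v ^ c)⁻¹, hm'⟩ : ↥(centralizer ({v ^ c} : Set K))) ∣ m :=
      orderOf_dvd_of_pow_eq_one (Subtype.ext h3)
    have h5 := ih _ (hn ▸ lt_of_le_of_lt (Nat.le_of_dvd hm0 ho) hm1) ↥(centralizer ({v ^ c} : Set K)) _ rfl
      (fun h6 => hv ((h6.trans ho).trans hm2)) hB
    intro g hg
    exact ⟨_, h5 ⟨g, hg⟩, cm_mul_inv hvb hm' ⟨g, hg⟩⟩
  have hall : ∀ r : ℕ, r.Prime → r ∣ orderOf v → ∃ c k : ℕ, (v ^ c) ^ r ^ k = 1 ∧ c ≡ 1 [MOD r] ∧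
      Cen p v (centralizer ({v ^ c} : Set K)) ∧ InZStar r (v ^ c) := by
    intro r hr hrv
    have hrf : Fact r.Prime := ⟨hr⟩
    have hrp : r ≠ p := by
      rintro rfl
      exact hv hrv
    obtain ⟨c, k, h1, h2, h3⟩ := hcen r hr hrv
    exact ⟨c, k, h1, h2, h3, isol h hv hrp (hZ K r hrp) h1 h3⟩
  refine central_of_parts fun q hq hqv => ?_
  have hqf : Fact q.Prime := ⟨hq⟩
  obtain ⟨c, k, h1, h2, h3, h4⟩ := hall q hq hqv
  refine ⟨c, h2, final_b h1 h4 ?_⟩
  refine Rp.all h hv (fun r hr hrv => ?_) (orderOf v).primeFactors _ (Cfsg.Agent.Lib.Cores.pPrimeCore_normal (G := K) q)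
    fun r hr hrv _ => Nat.mem_primeFactors.2 ⟨hr, hrv, (orderOf_pos v).ne'⟩
  obtain ⟨c', k', h1', -, h3', h4'⟩ := hall r hr hrv
  exact ⟨c', k', h1', h3', h4'⟩

/-- **Bad `p'`-elements are central modulo `O_p`.** -/
theorem main {p : ℕ} [Fact p.Prime] (hZ : ZAll.{u} p) {K : Type u} [Group K] [Finite K] {v : K} (hv : ¬ p ∣ orderOf v)
    (h : Bd p v) (g : K) : cm v g ∈ pCore p K := main_aux hZ _ K v rfl hv h g

end Cfsg.Agent.H182.Bad
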