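import Cfsg.Agent.H182.Bad.Odd
import Cfsg.Agent.S1938

/-!
# The Z*-statements for all groups, and the theorem on bad `p'`-elements without hypothesis (helper182)
-/

set_option autoImplicit false

namespace Cfsg.Agent.H182.Bad

open Cfsg
open Cfsg.Agent.H472.ComRed (cm)

universe u

theorem zall (p : ℕ) : ZAll.{u} p := fun _ _ _ _ _ _ S x hx h => Cfsg.Agent.S1938.result S x hx h

/-- A `p'`-element `v` all of whose commutators are trivial or of order divisible by `p` is central modulo `O_p`. -/
theorem central {p : ℕ} [Fact p.Prime] {K : Type u} [Group K] [Finite K] {v : K} (hv : ¬ p ∣ orderOf v)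
    (h : ∀ g : K, cm v g = 1 ∨ p ∣ orderOf (cm v g)) (g : K) : cm v g ∈ pCore p K := main (zall p) hv h g

end Cfsg.Agent.H182.Bad
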